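import Mathlib
import Groth.Agent.IntBC.Normal
import Groth.Agent.ConormalAlgz.Equiv
import Groth.Agent.Adic7.Basic
import Groth.Agent.FlatLoc6.Cpl
import Groth.Agent.S2610
import Groth.Agent.EssEtFrac5.Basic

/-! Normality of base changes of subrings cut out by normal rings. -/

set_option autoImplicit false
set_option linter.style.haveILetI false

universe u

open TensorProduct IsLocalRing Polynomial

namespace Groth.Agent.CplNormFinite

/-- An element of a localization of a normal ring integral over the ring comes from the ring. -/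
theorem exists_eq_of_isIntegral {R : Type u} [CommRing R] (h : EGA4.IsNormalRing R) (M : Submonoid R)
    (C : Type u) [CommRing C] [Algebra R C] [IsLocalization M C] {y : C} (hy : _root_.IsIntegral R y) :
    ∃ x, algebraMap R C x = y := by
  classical
  let I : Ideal R := (LinearMap.range (Algebra.linearMap R C)).comap (LinearMap.toSpanSingleton R C y)
  suffices hI : I = ⊤ by
    have h1 : (1 : R) ∈ I := hI ▸ Submodule.mem_top
    obtain ⟨x, hx⟩ := h1
    exact ⟨x, by simpa using hx⟩
  by_contra hne
  obtain ⟨Q, hQ, hIQ⟩ := Ideal.exists_le_maximal I hne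
  haveI := hQ.isPrime
  suffices hex : ∃ v ∉ Q, ∃ r, algebraMap R C v * y = algebraMap R C r by
    obtain ⟨v, hv, r, hr⟩ := hex
    exact hv (hIQ ⟨r, show algebraMap R C r = v • y by rw [Algebra.smul_def, hr]⟩)
  obtain ⟨a, s, rfl⟩ := IsLocalization.exists_mk'_eq M y
  obtain ⟨p, hp, hp0⟩ := hy
  let d := p.natDegree
  have hrel : algebraMap R C (a ^ d + ∑ i ∈ Finset.range d, p.coeff i * a ^ i * (s : R) ^ (d - i)) = 0 := by
    have hys : IsLocalization.mk' C a s * algebraMap R C s = algebraMap R C a := IsLocalization.mk'_spec C a s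
    conv_lhs at hp0 => rw [hp.as_sum]
    rw [eval₂_add, eval₂_X_pow, eval₂_finsetSum] at hp0
    simp only [eval₂_mul, eval₂_C, eval₂_X_pow] at hp0
    have h2 := congrArg (· * algebraMap R C (s : R) ^ d) hp0
    simp only [add_mul, zero_mul, Finset.sum_mul, ← mul_pow, hys] at h2
    rw [map_add, map_pow, map_sum, ← h2]
    congr 1
    · rw [← hys, mul_pow]
    refine Finset.sum_congr rfl fun i hi => ?_
    have hid : algebraMap R C (s : R) ^ d = algebraMap R C (s : R) ^ i * algebraMap R C (s : R) ^ (d - i) := by
      rw [← pow_add, Nat.add_sub_cancel' (Finset.mem_range.mp hi).le]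
    rw [map_mul, map_mul, map_pow, map_pow, hid, ← hys, mul_pow]
    ring
  obtain ⟨t, ht⟩ := (IsLocalization.map_eq_zero_iff M C _).mp hrel
  by_cases hsz : ∃ v ∉ Q, v * ((t : R) * (s : R)) = 0
  · obtain ⟨v, hv, hvs⟩ := hsz
    refine ⟨v, hv, 0, ?_⟩
    have hu : IsUnit (algebraMap R C ((t : R) * (s : R))) := IsLocalization.map_units C (t * s)
    have h2 : algebraMap R C v = 0 := hu.mul_left_eq_zero.mp (by rw [← map_mul, hvs, map_zero])
    rw [h2, zero_mul, map_zero]
  push_neg at hsz
  haveI := (h Q).1
  let g := algebraMap R (Localization.AtPrime Q)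
  have hts : g ((t : R) * (s : R)) ≠ 0 := fun h0 => by
    obtain ⟨⟨v, hv⟩, hvz⟩ := (IsLocalization.map_eq_zero_iff Q.primeCompl _ _).mp h0
    exact hsz v hv hvz
  have hgt : g (t : R) ≠ 0 := fun h0 => hts (by rw [map_mul, h0, zero_mul])
  have hrel0 : g (a ^ d + ∑ i ∈ Finset.range d, p.coeff i * a ^ i * (s : R) ^ (d - i)) = 0 :=
    (mul_eq_zero.mp (by rw [← map_mul, ht, map_zero])).resolve_left hgt
  obtain ⟨⟨w, hw⟩, hwz⟩ := (IsLocalization.map_eq_zero_iff Q.primeCompl _ _).mp hrel0
  obtain ⟨v, hv, r, hr⟩ := IntBC.fracClosed_of_normal h Q inferInstance a (s : R) d (fun i => w * p.coeff i) w hw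
    (by
      rw [← hwz, mul_add, Finset.mul_sum]
      congr 1
      exact Finset.sum_congr rfl fun i _ => by ring)
    (fun v hv h0 => hsz v hv (by rw [mul_left_comm, h0, mul_zero]))
  refine ⟨v, hv, r, ?_⟩
  rw [IsLocalization.mul_mk'_eq_mk'_of_mul, IsLocalization.mk'_eq_iff_eq_mul, hr, map_mul, mul_comm]

/-- Base change of a subring cut out by normal rings is normal. -/
theorem isNormalRing_tensor {A Ah B L : Type u} [CommRing A] [CommRing Ah] [CommRing B] [CommRing L]
    [Algebra A Ah] [Algebra A B] [Algebra A L] [Module.Flat A Ah] (v : B →ₐ[A] L) (hv : Function.Injective v)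
    [IsNoetherianRing (Ah ⊗[A] L)] (hT : EGA4.IsNormalRing (Ah ⊗[A] L)) {ι : Type u} [Finite ι]
    (C CL : ι → Type u) [∀ i, CommRing (C i)] [∀ i, CommRing (CL i)] [∀ i, Algebra A (C i)] [∀ i, Algebra A (CL i)]
    (ιB : ∀ i, B →ₐ[A] C i) (w : ∀ i, C i →ₐ[A] CL i) (μ : ∀ i, L →ₐ[A] CL i)
    (hsq : ∀ i b, w i (ιB i b) = μ i (v b)) (hclosed : ∀ q, (∀ i, μ i q ∈ Set.range (w i)) → q ∈ Set.range v)
    (hint : ∀ i (y : Ah ⊗[A] CL i), (Algebra.TensorProduct.map (AlgHom.id A Ah) (w i)).toRingHom.IsIntegralElem y →
      ∃ x, Algebra.TensorProduct.map (AlgHom.id A Ah) (w i) x = y) :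
    EGA4.IsNormalRing (Ah ⊗[A] B) := by
  classical
  cases nonempty_fintype ι
  let f : Ah ⊗[A] B →ₐ[A] Ah ⊗[A] L := Algebra.TensorProduct.map (AlgHom.id A Ah) v
  have hf : Function.Injective f := Module.Flat.lTensor_preserves_injective_linearMap (M := Ah) v.toLinearMap hv
  let Q : ι → Type u := fun i => CL i ⧸ LinearMap.range (w i).toLinearMap
  let ψ : L →ₗ[A] (∀ i, Q i) :=
    LinearMap.pi fun i => (LinearMap.range (w i).toLinearMap).mkQ.comp (μ i).toLinearMap
  have hex : Function.Exact v.toLinearMap ψ := by
    intro q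
    constructor
    · intro hq
      exact hclosed q fun i => (Submodule.Quotient.mk_eq_zero _).mp (congrFun hq i)
    · rintro ⟨b, rfl⟩
      exact funext fun i => (Submodule.Quotient.mk_eq_zero _).mpr ⟨ιB i b, hsq i b⟩
  refine IntBC.isNormalRing_of (IntBC.of_integrallyClosed_sub f.toRingHom hf hT (IntBC.idemSep_of_noetherian hT) ?_).1
    (IntBC.of_integrallyClosed_sub f.toRingHom hf hT (IntBC.idemSep_of_noetherian hT) ?_).2 <;>
  · intro t ht
    refine (Module.Flat.lTensor_exact Ah hex t).mp ?_
    apply (TensorProduct.piRight A A Ah Q).injective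
    rw [map_zero]
    funext i
    have hμ : (Algebra.TensorProduct.map (AlgHom.id A Ah) (w i)).toRingHom.IsIntegralElem
        (Algebra.TensorProduct.map (AlgHom.id A Ah) (μ i) t) := by
      obtain ⟨p, hp, hp0⟩ := ht
      refine ⟨p.map (Algebra.TensorProduct.map (AlgHom.id A Ah) (ιB i)).toRingHom, hp.map _, ?_⟩
      rw [eval₂_map]
      have hc : (Algebra.TensorProduct.map (AlgHom.id A Ah) (w i)).toRingHom.comp
          (Algebra.TensorProduct.map (AlgHom.id A Ah) (ιB i)).toRingHom =
          (Algebra.TensorProduct.map (AlgHom.id A Ah) (μ i)).toRingHom.comp f.toRingHom := by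
        have h1 : (Algebra.TensorProduct.map (AlgHom.id A Ah) (w i)).comp
            (Algebra.TensorProduct.map (AlgHom.id A Ah) (ιB i)) =
            (Algebra.TensorProduct.map (AlgHom.id A Ah) (μ i)).comp f :=
          Algebra.TensorProduct.ext' fun a b => by simp [f, hsq i b]
        exact RingHom.ext fun z => AlgHom.congr_fun h1 z
      rw [hc]
      exact (hom_eval₂ p f.toRingHom _ t).symm.trans (by rw [hp0, map_zero])
    obtain ⟨x, hx⟩ := hint i _ hμ
    have e1 : TensorProduct.piRight A A Ah Q (ψ.lTensor Ah t) i =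
        (LinearMap.range (w i).toLinearMap).mkQ.lTensor Ah (Algebra.TensorProduct.map (AlgHom.id A Ah) (μ i) t) := by
      clear hx hμ ht
      induction t using TensorProduct.induction_on with
      | zero => simp
      | tmul a l => simp [ψ]
      | add a b ha hb => simp only [map_add, Pi.add_apply, ha, hb]
    rw [e1, ← hx]
    show (LinearMap.range (w i).toLinearMap).mkQ.lTensor Ah ((w i).toLinearMap.lTensor Ah x) = 0
    rw [← LinearMap.lTensor_comp_apply, LinearMap.range_mkQ_comp, LinearMap.lTensor_zero, LinearMap.zero_apply]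

/-- Completion of a finite algebra as a base change. -/
theorem exists_cplEquiv_of_finite (A B : Type u) [CommRing A] [IsLocalRing A] [IsNoetherianRing A] [CommRing B]
    [Algebra A B] [Module.Finite A B] :
    Nonempty (EGA4.Cpl A ⊗[A] B ≃+* AdicCompletion ((maximalIdeal A).map (algebraMap A B)) B) := by
  let Ah := EGA4.Cpl A
  let C := Ah ⊗[A] B
  let f : B →+* C := (Algebra.TensorProduct.includeRight (R := A) (A := Ah) (B := B)).toRingHom
  let J : Ideal C := ((maximalIdeal A).map (algebraMap A B)).map f
  have hJ : J = ((maximalIdeal A).map (algebraMap A Ah)).map (algebraMap Ah C) := by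
    rw [Ideal.map_map, ← IsScalarTower.algebraMap_eq]
    show Ideal.map f (Ideal.map (algebraMap A B) (maximalIdeal A)) = _
    rw [Ideal.map_map]
    congr 1
    exact (Algebra.TensorProduct.includeRight (R := A) (A := Ah) (B := B)).comp_algebraMap
  haveI : IsAdicComplete ((maximalIdeal A).map (algebraMap A Ah)) Ah :=
    AdicCompletion.isAdicComplete_self _ (IsNoetherian.noetherian _)
  haveI := FlatLoc6.isNoetherianRing_cpl A
  haveI := FlatLoc6.faithfullyFlat_cpl A
  haveI : IsAdicComplete ((maximalIdeal A).map (algebraMap A Ah)) C := Adic7.isAdicComplete_of_finite _ _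
  haveI : IsAdicComplete (((maximalIdeal A).map (algebraMap A B)).map f) C := by
    show IsAdicComplete J C
    rw [hJ]
    exact (IsAdicComplete.map_algebraMap_iff _ _).mpr inferInstance
  letI : Algebra B C := f.toAlgebra
  haveI : Module.FaithfullyFlat B C := by
    let e : (B ⊗[A] Ah) ≃ₐ[B] C := AlgEquiv.ofRingEquiv (f := (Algebra.TensorProduct.comm A B Ah).toRingEquiv)
      (fun b => by simp [RingHom.algebraMap_toAlgebra, f, C, Algebra.TensorProduct.algebraMap_apply])
    exact Module.FaithfullyFlat.of_linearEquiv _ _ e.symm.toLinearEquiv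
  refine ⟨(ConormalAlgz.exists_equiv ((maximalIdeal A).map (algebraMap A B)) f (fun m c => ?_) (fun m d hd => ?_)).choose⟩
  · induction c using TensorProduct.induction_on with
    | zero => exact ⟨0, by simp⟩
    | add x y hx hy =>
      obtain ⟨b, hb⟩ := hx
      obtain ⟨c, hc⟩ := hy
      exact ⟨b + c, by rw [map_add, add_sub_add_comm]; exact add_mem hb hc⟩
    | tmul α b =>
      obtain ⟨a, ha⟩ := Submodule.mkQ_surjective _ (AdicCompletion.eval (maximalIdeal A) A m α)
      refine ⟨a • b, ?_⟩
      have h1 : α - algebraMap A Ah a ∈ (maximalIdeal A ^ m).map (algebraMap A Ah) := by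
        rw [← LocalCrit.smul_top_eq_map, AdicCompletion.pow_smul_top_eq_ker_eval (IsNoetherian.noetherian _),
          LinearMap.mem_ker, map_sub, ← ha, sub_eq_zero]
        exact (AdicCompletion.eval_of _ _ m a).symm
      have h2 : algebraMap Ah C (α - algebraMap A Ah a) ∈ J ^ m := by
        rw [hJ, ← Ideal.map_pow, ← Ideal.map_pow]
        exact Ideal.mem_map_of_mem _ h1
      have h3 : α ⊗ₜ[A] b - f (a • b) = algebraMap Ah C (α - algebraMap A Ah a) * ((1 : Ah) ⊗ₜ[A] b) := by
        rw [map_sub, sub_mul]
        congr 1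
        · simp [C, Algebra.TensorProduct.algebraMap_apply]
        · show (1 : Ah) ⊗ₜ[A] (a • b) = _
          simp [C, Algebra.TensorProduct.algebraMap_apply, Algebra.algebraMap_eq_smul_one, TensorProduct.smul_tmul]
      rw [h3]
      exact Ideal.mul_mem_right _ _ h2
  · rw [← Ideal.map_pow] at hd
    have := Ideal.comap_map_eq_self_of_faithfullyFlat (B := C) ((maximalIdeal A).map (algebraMap A B) ^ m)
    rw [← this]
    exact hd

/-- Base change of a localization. -/
theorem isLocalization_map' (A E B C : Type u) [CommRing A] [CommRing E] [CommRing B] [CommRing C] [Algebra A E]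
    [Algebra A B] [Algebra A C] [Algebra B C] [IsScalarTower A B C] (M : Submonoid B) [IsLocalization M C] :
    letI := (Algebra.TensorProduct.map (AlgHom.id A E) (IsScalarTower.toAlgHom A B C)).toAlgebra
    IsLocalization (M.map (Algebra.TensorProduct.includeRight (R := A) (A := E))) (E ⊗[A] C) := by
  letI := (Algebra.TensorProduct.map (AlgHom.id A E) (IsScalarTower.toAlgHom A B C)).toAlgebra
  haveI : IsScalarTower E (E ⊗[A] B) (E ⊗[A] C) :=
    .of_algebraMap_eq <| by intro; simp [RingHom.algebraMap_toAlgebra]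
  exact IsLocalization.tensorProduct_tensorProduct_right A E M C (by ext; simp [RingHom.algebraMap_toAlgebra])

theorem isNormalRing_of_ringEquiv' {R S : Type u} [CommRing R] [CommRing S] (e : R ≃+* S)
    (h : EGA4.IsNormalRing R) : EGA4.IsNormalRing S := by
  intro p _
  let P : Ideal R := p.comap (e : R →+* S)
  have hP : Submonoid.map (e.toRingHom : R →* S) P.primeCompl = p.primeCompl := by
    ext x
    constructor
    · rintro ⟨y, hy, rfl⟩
      exact hy
    · intro hx
      exact ⟨e.symm x, fun hm => hx (by simpa [P] using hm), e.apply_symm_apply x⟩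
  let f : Localization.AtPrime P ≃+* Localization.AtPrime p :=
    IsLocalization.ringEquivOfRingEquiv (M := P.primeCompl) (T := p.primeCompl) (Localization.AtPrime P)
      (Localization.AtPrime p) e hP
  obtain ⟨_, _⟩ := h P
  exact ⟨f.symm.toMulEquiv.isDomain, IsIntegrallyClosed.of_equiv f⟩

theorem isNormalRing_of_isLocalization' {R : Type u} [CommRing R] (M : Submonoid R) (C : Type u) [CommRing C]
    [Algebra R C] [IsLocalization M C] (h : EGA4.IsNormalRing R) : EGA4.IsNormalRing C := by
  intro Q _
  haveI : IsLocalization.AtPrime (Localization.AtPrime Q) (Q.comap (algebraMap R C)) :=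
    IsLocalization.isLocalization_isLocalization_atPrime_isLocalization M (Localization.AtPrime Q) Q
  let e := (IsLocalization.algEquiv (Q.comap (algebraMap R C)).primeCompl
    (Localization.AtPrime (Q.comap (algebraMap R C))) (Localization.AtPrime Q)).toRingEquiv
  obtain ⟨_, _⟩ := h (Q.comap (algebraMap R C))
  exact ⟨e.symm.toMulEquiv.isDomain,
    IsIntegrallyClosed.of_equiv (R := Localization.AtPrime (Q.comap (algebraMap R C))) e⟩

theorem isNormalRing_of_faithfullyFlat' (A B : Type u) [CommRing A] [CommRing B] [IsNoetherianRing A]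
    [IsNoetherianRing B] [Algebra A B] [Module.FaithfullyFlat A B] (h : EGA4.IsNormalRing B) :
    EGA4.IsNormalRing A := by
  intro p _
  obtain ⟨Q, hQ⟩ := PrimeSpectrum.comap_surjective_of_faithfullyFlat (A := A) (B := B) ⟨p, ‹_›⟩
  have hQ' : Q.asIdeal.comap (algebraMap A B) = p := congrArg PrimeSpectrum.asIdeal hQ
  subst hQ'
  obtain ⟨_, _⟩ := h Q.asIdeal
  exact S2610.result A B Q.asIdeal

/-- Descent of normality from a faithfully flat extension of the second factor. -/
theorem isNormalRing_descend (A Ah L CL : Type u) [CommRing A] [CommRing Ah] [CommRing L] [CommRing CL]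
    [Algebra A Ah] [Algebra A L] [Algebra A CL] [Algebra L CL] [IsScalarTower A L CL] [Module.FaithfullyFlat L CL]
    [IsNoetherianRing (Ah ⊗[A] L)] [IsNoetherianRing (Ah ⊗[A] CL)]
    (h : EGA4.IsNormalRing (Ah ⊗[A] CL)) : EGA4.IsNormalRing (Ah ⊗[A] L) := by
  let T := L ⊗[A] Ah
  let eT : (Ah ⊗[A] L) ≃+* T := (Algebra.TensorProduct.comm A Ah L).toRingEquiv
  let e : (Ah ⊗[A] CL) ≃+* (T ⊗[L] CL) :=
    (Algebra.TensorProduct.comm A Ah CL).toRingEquiv.trans
      ((Algebra.TensorProduct.cancelBaseChange A L CL CL Ah).toRingEquiv.symm.trans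
        (Algebra.TensorProduct.comm L CL T).toRingEquiv)
  haveI : IsNoetherianRing T := isNoetherianRing_of_ringEquiv _ eT
  haveI : IsNoetherianRing (T ⊗[L] CL) := isNoetherianRing_of_ringEquiv _ e
  exact isNormalRing_of_ringEquiv' eT.symm
    (isNormalRing_of_faithfullyFlat' T (T ⊗[L] CL) (isNormalRing_of_ringEquiv' e h))

/-- Injective integral extensions of reduced artinian rings are faithfully flat. -/
theorem faithfullyFlat_of_artinian (L CL : Type u) [CommRing L] [CommRing CL] [Algebra L CL] [IsArtinianRing L]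
    [IsReduced L] [Algebra.IsIntegral L CL] (h : Function.Injective (algebraMap L CL)) :
    Module.FaithfullyFlat L CL := by
  haveI : IsSemisimpleRing L := IsArtinianRing.isSemisimpleRing_of_isReduced L
  haveI : Module.Projective L CL := Module.projective_of_isSemisimpleRing L CL
  haveI : FaithfulSMul L CL := (faithfulSMul_iff_algebraMap_injective L CL).mpr h
  exact Module.FaithfullyFlat.of_comap_surjective (fun P => by
    obtain ⟨Q, hQ⟩ := Algebra.IsIntegral.comap_surjective L CL P
    exact ⟨Q, hQ⟩)

/-- The completion of a finite algebra which is a normal subring of one with normal completion is normal. -/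
theorem isNormalRing_completion_of_sub (A : Type u) [CommRing A] [IsLocalRing A] [IsNoetherianRing A]
    (B C : Type u) [CommRing B] [CommRing C] [Algebra A B] [Algebra A C] [Algebra B C] [IsScalarTower A B C]
    [Module.Finite A B] [Module.Finite A C] (hinj : Function.Injective (algebraMap B C))
    (hB : EGA4.IsNormalRing B)
    (hC : EGA4.IsNormalRing (AdicCompletion ((maximalIdeal A).map (algebraMap A C)) C)) :
    EGA4.IsNormalRing (AdicCompletion ((maximalIdeal A).map (algebraMap A B)) B) := by
  let Ah := EGA4.Cpl A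
  haveI := FlatLoc6.isNoetherianRing_cpl A
  haveI := FlatLoc6.faithfullyFlat_cpl A
  obtain ⟨eB⟩ := exists_cplEquiv_of_finite A B
  obtain ⟨eC⟩ := exists_cplEquiv_of_finite A C
  refine isNormalRing_of_ringEquiv' eB ?_
  have hCn : EGA4.IsNormalRing (Ah ⊗[A] C) := isNormalRing_of_ringEquiv' eC.symm hC
  haveI : IsNoetherianRing B := IsNoetherianRing.of_finite A B
  haveI : IsNoetherianRing C := IsNoetherianRing.of_finite A C
  haveI : Module.Finite B C := Module.Finite.of_restrictScalars_finite A B C
  haveI : IsReduced B := isReduced_ofLocalizationMaximal B fun P _ => haveI := (hB P).1; inferInstance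
  let S := nonZeroDivisors B
  let L := FractionRing B
  let S' := Algebra.algebraMapSubmonoid C S
  let CL := Localization S'
  haveI : IsLocalization (S.map (algebraMap B C)) CL := inferInstanceAs (IsLocalization S' CL)
  letI : Algebra L CL := localizationAlgebra S C
  haveI : IsScalarTower B L CL := IsScalarTower.of_algebraMap_eq fun b => by
    show _ = IsLocalization.map CL (algebraMap B C) _ (algebraMap B L b)
    rw [IsLocalization.map_eq, IsScalarTower.algebraMap_apply B C CL]
  haveI : IsScalarTower A L CL := IsScalarTower.of_algebraMap_eq fun a => by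
    rw [IsScalarTower.algebraMap_apply A B CL, IsScalarTower.algebraMap_apply A B L,
      ← IsScalarTower.algebraMap_apply B L CL]
  have hLi : Function.Injective (algebraMap L CL) :=
    IsLocalization.map_injective_of_injective S L CL hinj
  haveI : Algebra.IsIntegral L CL :=
    ⟨isIntegral_localization (R := B) (M := S) (S := C) (Rₘ := L) (Sₘ := CL)⟩
  haveI : IsArtinianRing L := EssEtFrac5.isArtinianRing_fractionRing (minimalPrimes.finite_of_isNoetherianRing B)
  haveI : IsReduced L := isReduced_localizationPreserves S L inferInstance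
  haveI := faithfullyFlat_of_artinian L CL hLi
  let v := IsScalarTower.toAlgHom A B L
  let w := IsScalarTower.toAlgHom A C CL
  letI : Algebra (Ah ⊗[A] B) (Ah ⊗[A] L) := (Algebra.TensorProduct.map (AlgHom.id A Ah) v).toAlgebra
  haveI := isLocalization_map' A Ah B L S
  letI : Algebra (Ah ⊗[A] C) (Ah ⊗[A] CL) := (Algebra.TensorProduct.map (AlgHom.id A Ah) w).toAlgebra
  haveI := isLocalization_map' A Ah C CL S'
  haveI : IsNoetherianRing (Ah ⊗[A] B) := Algebra.FiniteType.isNoetherianRing Ah _
  haveI : IsNoetherianRing (Ah ⊗[A] C) := Algebra.FiniteType.isNoetherianRing Ah _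
  haveI : IsNoetherianRing (Ah ⊗[A] L) := IsLocalization.isNoetherianRing
    (S.map (Algebra.TensorProduct.includeRight (R := A) (A := Ah) (B := B))) _ inferInstance
  haveI : IsNoetherianRing (Ah ⊗[A] CL) := IsLocalization.isNoetherianRing
    (S'.map (Algebra.TensorProduct.includeRight (R := A) (A := Ah) (B := C))) _ inferInstance
  have hT : EGA4.IsNormalRing (Ah ⊗[A] L) := isNormalRing_descend A Ah L CL
    (isNormalRing_of_isLocalization' (S'.map (Algebra.TensorProduct.includeRight (R := A) (A := Ah) (B := C))) _ hCn)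
  refine isNormalRing_tensor v (IsFractionRing.injective B L) hT (ι := PUnit.{u + 1}) (fun _ => C) (fun _ => CL)
    (fun _ => IsScalarTower.toAlgHom A B C) (fun _ => w) (fun _ => IsScalarTower.toAlgHom A L CL) (fun _ b => ?_)
    (fun q hq => ?_) (fun _ y hy => exists_eq_of_isIntegral hCn
      (S'.map (Algebra.TensorProduct.includeRight (R := A) (A := Ah) (B := C))) _ hy)
  · show algebraMap C CL (algebraMap B C b) = algebraMap L CL (algebraMap B L b)
    rw [← IsScalarTower.algebraMap_apply, ← IsScalarTower.algebraMap_apply]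
  · obtain ⟨c, hc⟩ := hq ⟨⟩
    have h1 : _root_.IsIntegral B (algebraMap L CL q) := by
      rw [show algebraMap L CL q = algebraMap C CL c from hc.symm]
      exact (Algebra.IsIntegral.isIntegral c).algebraMap
    have h2 : _root_.IsIntegral B q := (isIntegral_algHom_iff (IsScalarTower.toAlgHom B L CL) hLi).mp h1
    exact exists_eq_of_isIntegral hB S L h2

end Groth.Agent.CplNormFinite
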