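import Groth.Prelude.Def_Curv2
import Groth.Prelude.Def_Found
import Groth.Agent.CplNormFinite.Descend
import Groth.Agent.CplRegular.Stalk
import Groth.Agent.FlatLoc6.Rk
import Groth.Agent.FlatLoc6.Cpl
import Groth.Agent.VarGeom.Normal
import Groth.Agent.RegLoc6.Normal
import Groth.Agent.S1297

/-! Normality of completions of normalizations in the presence of a regular alteration. -/

set_option autoImplicit false
set_option linter.style.haveILetI false

universe u

open CategoryTheory CategoryTheory.Limits AlgebraicGeometry TopologicalSpace IsLocalRing TensorProduct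

namespace Groth.Agent.CplNormFinite.Alt

section

variable {X : Scheme.{u}} {A : Type u} [CommRing A] (f : X ⟶ Spec (CommRingCat.of A))

/-- The structure map to global functions. -/
noncomputable def toΓ : A →+* Γ(X, ⊤) :=
  ((Scheme.ΓSpecIso (CommRingCat.of A)).inv ≫ f.appTop).hom

theorem mem_basicOpen_toΓ (a : A) (y : X) :
    y ∈ X.basicOpen (toΓ f a) ↔ f y ∈ PrimeSpectrum.basicOpen a := by
  have h1 : f ⁻¹ᵁ (Spec (CommRingCat.of A)).basicOpen ((Scheme.ΓSpecIso (CommRingCat.of A)).inv a) =
      X.basicOpen (toΓ f a) := Scheme.preimage_basicOpen f _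
  rw [← h1, basicOpen_eq_of_affine]
  rfl

theorem finite_toΓ [IsNoetherianRing A] [IsProper f] : (toΓ f).Finite :=
  (Groth.Agent.S1297.finite_appTop f).comp
    (RingHom.Finite.of_surjective _ (ConcreteCategory.bijective_of_isIso (Scheme.ΓSpecIso (CommRingCat.of A)).inv).2)

/-- The structure map to the functions on an open. -/
noncomputable def toSec (U : X.Opens) : A →+* Γ(X, U) :=
  ((Scheme.ΓSpecIso (CommRingCat.of A)).inv ≫ f.appLE ⊤ U le_top).hom

variable [IsIntegral X]

/-- The structure map to the function field. -/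
noncomputable def toK : A →+* X.functionField :=
  haveI : Nonempty (⊤ : X.Opens) := ⟨⟨genericPoint X, trivial⟩⟩
  (X.germToFunctionField ⊤).hom.comp (toΓ f)

theorem toSec_eq (U : X.Opens) [Nonempty U] :
    (algebraMap Γ(X, U) X.functionField).comp (toSec f U) = toK f := by
  refine RingHom.ext fun a => ?_
  show X.germToFunctionField U (f.appLE ⊤ U le_top ((Scheme.ΓSpecIso (CommRingCat.of A)).inv a)) = _
  rw [Scheme.Hom.appLE, CommRingCat.comp_apply]
  show X.presheaf.germ U (genericPoint X) _ (X.presheaf.map _ _) = _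
  rw [TopCat.Presheaf.germ_res_apply]
  rfl

theorem finiteType_toSec [LocallyOfFiniteType f] {U : X.Opens} (hU : IsAffineOpen U) : (toSec f U).FiniteType :=
  RingHom.FiniteType.comp (f.finiteType_appLE (isAffineOpen_top _) hU le_top)
    (RingHom.FiniteType.of_surjective _
      (Scheme.ΓSpecIso (CommRingCat.of A)).commRingCatIsoToRingEquiv.symm.surjective)

end

variable {A : Type u} [CommRing A] [IsLocalRing A] [IsNoetherianRing A]

theorem normal_bcCpl {X : Scheme.{u}} (f : X ⟶ Spec (CommRingCat.of A)) [IsProper f]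
    (hreg : ∀ x : X, IsRegularLocalRing (X.presheaf.stalk x)) (y : Curv2.bcCpl A f) :
    IsDomain ((Curv2.bcCpl A f).presheaf.stalk y) ∧ IsIntegrallyClosed ((Curv2.bcCpl A f).presheaf.stalk y) := by
  haveI : IsProper (Curv2.bcCplSnd A f) := MorphismProperty.pullback_snd _ _ ‹IsProper f›
  obtain ⟨z, hz, hzc⟩ := ((Curv2.bcCplSnd A f).isClosedMap (closure ({y} : Set _)) isClosed_closure).stableUnderSpecialization
    (IsLocalRing.specializes_closedPoint (R := Curv2.cpl A) ((Curv2.bcCplSnd A f) y)) ⟨y, subset_closure rfl, rfl⟩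
  have hover : f ((Curv2.bcCplFst A f) z) = closedPoint A := by
    rw [← Scheme.Hom.comp_apply, pullback.condition, Scheme.Hom.comp_apply]
    refine (congrArg _ hzc).trans (PrimeSpectrum.ext ?_)
    show (maximalIdeal (Curv2.cpl A)).comap (algebraMap A (Curv2.cpl A)) = maximalIdeal A
    refine (IsLocalRing.le_maximalIdeal (Ideal.IsPrime.ne_top inferInstance)).antisymm fun a ha => ?_
    refine Ideal.mem_comap.mpr ((IsLocalRing.mem_maximalIdeal _).mpr fun hu => ?_)
    have h1 : Ideal.Quotient.mk (maximalIdeal A) a = 0 := Ideal.Quotient.eq_zero_iff_mem.mpr ha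
    have h2 := hu.map (AdicCompletion.evalOneₐ (maximalIdeal A))
    rw [AlgHom.commutes] at h2
    exact h2.ne_zero h1
  let R := X.presheaf.stalk ((Curv2.bcCplFst A f) z)
  let S := (Curv2.bcCpl A f).presheaf.stalk z
  have hmm := CplRegular.mapMax_fst A f z hover
  haveI : IsNoetherianRing (Curv2.cpl A) := FlatLoc6.isNoetherianRing_cpl (A := A)
  haveI : IsLocallyNoetherian X := LocallyOfFiniteType.isLocallyNoetherian f
  haveI : IsLocallyNoetherian (Curv2.bcCpl A f) := LocallyOfFiniteType.isLocallyNoetherian (Curv2.bcCplSnd A f)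
  haveI : Flat (Spec.map (CommRingCat.ofHom (algebraMap A (Curv2.cpl A)))) := by
    rw [HasRingHomProperty.Spec_iff (P := @Flat)]
    exact RingHom.flat_algebraMap_iff.mpr (AdicCompletion.flat_of_isNoetherian _)
  haveI : Flat (Curv2.bcCplFst A f) := MorphismProperty.pullback_fst _ _ inferInstance
  have hfl := Flat.stalkMap (Curv2.bcCplFst A f) z
  algebraize [((Curv2.bcCplFst A f).stalkMap z).hom]
  haveI : IsLocalHom (algebraMap R S) := (Curv2.bcCplFst A f).toLRSHom.prop z
  haveI : Module.Flat R S := hfl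
  haveI : IsRegularLocalRing R := hreg _
  haveI : IsRegularLocalRing S := by
    refine FlatLoc6.isRegularLocalRing_of_flat_fibre (A := R) (B := S) ?_
    have e : (maximalIdeal R).map (algebraMap R S) = maximalIdeal S := hmm
    rw [e]
    letI := Ideal.Quotient.field (maximalIdeal S)
    infer_instance
  haveI : IsDomain S := RegLoc6.isDomain_of_isRegularLocalRing _
  haveI : IsIntegrallyClosed S := RegLoc6.isIntegrallyClosed_of_isRegularLocalRing _
  exact VarGeom.normalAt_of_specializes (specializes_iff_mem_closure.mpr hz)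

theorem finite_integralClosure [IsDomain A] {X : Scheme.{u}} (f : X ⟶ Spec (CommRingCat.of A)) [IsProper f]
    [IsIntegral X] (hreg : ∀ x : X, IsRegularLocalRing (X.presheaf.stalk x))
    (Φ : FractionRing A →+* X.functionField) (hΦ : ∀ a, Φ (algebraMap A (FractionRing A) a) = toK f a) :
    Module.Finite A (integralClosure A (FractionRing A)) := by
  haveI : Nonempty (⊤ : X.Opens) := ⟨⟨genericPoint X, trivial⟩⟩
  have hn : ∀ x : X, IsIntegrallyClosed (X.presheaf.stalk x) := fun x => by
    haveI := hreg x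
    exact RegLoc6.isIntegrallyClosed_of_isRegularLocalRing _
  let germ := (X.germToFunctionField ⊤).hom
  letI : Algebra A Γ(X, ⊤) := (toΓ f).toAlgebra
  letI : Algebra A X.functionField := (toK f).toAlgebra
  let G : Γ(X, ⊤) →ₐ[A] X.functionField := { germ with commutes' := fun _ => rfl }
  let F : integralClosure A (FractionRing A) →ₐ[A] X.functionField :=
    { Φ.comp (integralClosure A (FractionRing A)).val.toRingHom with commutes' := fun a => hΦ a }
  haveI : Module.Finite A Γ(X, ⊤) := finite_toΓ f
  haveI : IsNoetherian A (LinearMap.range G.toLinearMap) := isNoetherian_of_surjective G.toLinearMap.rangeRestrict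
    (LinearMap.range_rangeRestrict _)
  have hmem : ∀ b, F b ∈ LinearMap.range G.toLinearMap := by
    intro b
    obtain ⟨p, hp, hp0⟩ := b.2
    have hi : germ.IsIntegralElem (F b) := by
      refine ⟨p.map (toΓ f), hp.map _, ?_⟩
      rw [Polynomial.eval₂_map]
      have := congrArg Φ hp0
      rw [map_zero, Polynomial.hom_eval₂,
        show Φ.comp (algebraMap A (FractionRing A)) = toK f from RingHom.ext hΦ] at this
      exact this
    obtain ⟨s, hs⟩ := VarGeom.exists_global_of_isIntegral hn (F b) hi
    exact ⟨s, hs⟩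
  exact Module.Finite.of_injective (F.toLinearMap.codRestrict _ hmem)
    (fun b b' h => Subtype.ext (Φ.injective (congrArg Subtype.val h)))

/-- Base changes of affine opens of a regular proper scheme to the completion are normal. -/
theorem isNormalRing_tensor_sections {X : Scheme.{u}} [IsIntegral X] (f : X ⟶ Spec (CommRingCat.of A)) [IsProper f]
    (hreg : ∀ x : X, IsRegularLocalRing (X.presheaf.stalk x)) {V : X.Opens} (hV : IsAffineOpen V) :
    letI := (toSec f V).toAlgebra
    EGA4.IsNormalRing (EGA4.Cpl A ⊗[A] Γ(X, V)) := by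
  letI := (toSec f V).toAlgebra
  let B := Γ(X, V)
  let Ah := EGA4.Cpl A
  let c := Spec.map (CommRingCat.ofHom (algebraMap A Ah))
  have hb : (Spec.map (CommRingCat.ofHom (toSec f V)) : Spec (CommRingCat.of B) ⟶ _) = hV.fromSpec ≫ f := by
    rw [toSec, CommRingCat.ofHom_hom, Spec.map_comp]
    rw [← (isAffineOpen_top _).SpecMap_appLE_fromSpec f hV le_top, IsAffineOpen.fromSpec_top, Scheme.isoSpec_Spec_inv]
  let e : Spec (CommRingCat.of (Ah ⊗[A] B)) ⟶ Curv2.bcCpl A f :=
    (pullbackSpecIso A Ah B).inv ≫ (pullbackSymmetry _ _).hom ≫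
      pullback.map (Spec.map (CommRingCat.ofHom (algebraMap A B))) c f c hV.fromSpec (𝟙 _) (𝟙 _)
        (by rw [Category.comp_id]; exact hb) (by simp)
  haveI : IsOpenImmersion e := inferInstanceAs (IsOpenImmersion ((pullbackSpecIso A Ah B).inv ≫ _))
  intro P hP
  obtain ⟨_, _⟩ := normal_bcCpl f hreg (e ⟨P, hP⟩)
  let ε : Localization.AtPrime P ≃+* (Curv2.bcCpl A f).presheaf.stalk (e ⟨P, hP⟩) :=
    (StructureSheaf.stalkIso (Ah ⊗[A] B) ⟨P, hP⟩).toRingEquiv.trans
      (asIso (e.stalkMap ⟨P, hP⟩)).symm.commRingCatIsoToRingEquiv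
  exact ⟨ε.toMulEquiv.isDomain, IsIntegrallyClosed.of_equiv ε.symm⟩

/-- The completion of the normalization of a domain with regular alteration is normal. -/
theorem isNormalRing_completion_integralClosure [IsDomain A] {X : Scheme.{u}} (f : X ⟶ Spec (CommRingCat.of A))
    [IsProper f] [IsIntegral X] [IsDominant f] (hreg : ∀ x : X, IsRegularLocalRing (X.presheaf.stalk x)) :
    EGA4.IsNormalRing (AdicCompletion ((maximalIdeal A).map
      (algebraMap A (integralClosure A (FractionRing A)))) (integralClosure A (FractionRing A))) := by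
  classical
  let K := FractionRing A
  let B := integralClosure A K
  let Ah := EGA4.Cpl A
  haveI := FlatLoc6.isNoetherianRing_cpl A
  haveI := FlatLoc6.faithfullyFlat_cpl A
  haveI : Nonempty (⊤ : X.Opens) := ⟨⟨genericPoint X, trivial⟩⟩
  haveI : IsLocallyNoetherian X := LocallyOfFiniteType.isLocallyNoetherian f
  haveI : CompactSpace X := QuasiCompact.compactSpace_of_compactSpace f
  letI : Algebra A X.functionField := (toK f).toAlgebra
  have hgen : f (genericPoint X) = (⟨⊥, Ideal.isPrime_bot⟩ : PrimeSpectrum A) := by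
    have h : IsGenericPoint (f (genericPoint X)) (Set.univ : Set (Spec (CommRingCat.of A))) := by
      have h1 := (genericPoint_spec X).image f.continuous
      rw [Set.image_univ, f.denseRange.closure_range] at h1
      exact h1
    have h2 : (⟨⊥, Ideal.isPrime_bot⟩ : PrimeSpectrum A) ∈ closure {f (genericPoint X)} := by
      rw [h.def]; trivial
    exact PrimeSpectrum.ext (le_bot_iff.mp ((PrimeSpectrum.le_iff_mem_closure _ _).mpr h2))
  have hψ : ∀ a : A, a ≠ 0 → IsUnit (toK f a) := by
    intro a ha
    have h1 : genericPoint X ∈ X.basicOpen (toΓ f a) := by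
      rw [mem_basicOpen_toΓ, hgen]
      exact fun h => ha (Ideal.mem_bot.mp h)
    exact (Scheme.mem_basicOpen (U := ⊤) X _ _ (Opens.mem_top _)).mp h1
  let Φ : K →ₐ[A] X.functionField :=
    IsLocalization.liftAlgHom (M := nonZeroDivisors A) (f := Algebra.ofId A X.functionField)
      fun a => hψ a.1 (nonZeroDivisors.ne_zero a.2)
  letI : Algebra K X.functionField := Φ.toRingHom.toAlgebra
  haveI : IsScalarTower A K X.functionField := IsScalarTower.of_algebraMap_eq fun a => (Φ.commutes a).symm
  haveI : Module.FaithfullyFlat K X.functionField := inferInstance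
  haveI : Module.Finite A B := finite_integralClosure f hreg Φ.toRingHom Φ.commutes
  obtain ⟨eB⟩ := exists_cplEquiv_of_finite A B
  refine isNormalRing_of_ringEquiv' eB ?_
  letI : Algebra (Ah ⊗[A] A) (Ah ⊗[A] K) :=
    (Algebra.TensorProduct.map (AlgHom.id A Ah) (IsScalarTower.toAlgHom A A K)).toAlgebra
  haveI := isLocalization_map' A Ah A K (nonZeroDivisors A)
  haveI : IsNoetherianRing (Ah ⊗[A] A) := Algebra.FiniteType.isNoetherianRing Ah _
  haveI : IsNoetherianRing (Ah ⊗[A] K) := IsLocalization.isNoetherianRing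
    ((nonZeroDivisors A).map (Algebra.TensorProduct.includeRight (R := A) (A := Ah) (B := A))) _ inferInstance
  have hU : ∀ x : X, ∃ U : X.Opens, IsAffineOpen U ∧ x ∈ U := fun x => by
    obtain ⟨U, hU, hx, -⟩ := exists_isAffineOpen_mem_and_subset (X := X) (x := x) (U := ⊤) trivial
    exact ⟨U, hU, hx⟩
  choose U hUa hxU using hU
  obtain ⟨t, ht⟩ := isCompact_univ.elim_finite_subcover (fun x : X => ((U x : X.Opens) : Set X))
    (fun x => (U x).isOpen) (fun x _ => Set.mem_iUnion.mpr ⟨x, hxU x⟩)
  letI algU : ∀ x : t, Algebra A Γ(X, U x.1) := fun x => (toSec f (U x.1)).toAlgebra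
  haveI : ∀ x : t, Nonempty (U x.1) := fun x => ⟨⟨x.1, hxU x.1⟩⟩
  let w : ∀ x : t, Γ(X, U x.1) →ₐ[A] X.functionField := fun x =>
    { algebraMap Γ(X, U x.1) X.functionField with commutes' := fun a => RingHom.congr_fun (toSec_eq f (U x.1)) a }
  have hsec : ∀ (x : t),
      IsNoetherianRing (Ah ⊗[A] X.functionField) ∧ EGA4.IsNormalRing (Ah ⊗[A] X.functionField) ∧
      ∀ y : Ah ⊗[A] X.functionField,
        (Algebra.TensorProduct.map (AlgHom.id A Ah) (w x)).toRingHom.IsIntegralElem y →
        ∃ z, Algebra.TensorProduct.map (AlgHom.id A Ah) (w x) z = y := by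
    intro x
    haveI : Algebra.FiniteType A Γ(X, U x.1) := finiteType_toSec f (hUa x.1)
    haveI : IsScalarTower A Γ(X, U x.1) X.functionField :=
      IsScalarTower.of_algebraMap_eq fun a => (RingHom.congr_fun (toSec_eq f (U x.1)) a).symm
    haveI := functionField_isFractionRing_of_isAffineOpen X (U x.1) (hUa x.1)
    letI : Algebra (Ah ⊗[A] Γ(X, U x.1)) (Ah ⊗[A] X.functionField) :=
      (Algebra.TensorProduct.map (AlgHom.id A Ah) (w x)).toAlgebra
    haveI : IsLocalization ((nonZeroDivisors Γ(X, U x.1)).map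
        (Algebra.TensorProduct.includeRight (R := A) (A := Ah) (B := Γ(X, U x.1)))) (Ah ⊗[A] X.functionField) :=
      isLocalization_map' A Ah Γ(X, U x.1) X.functionField (nonZeroDivisors Γ(X, U x.1))
    let M := (nonZeroDivisors Γ(X, U x.1)).map
      (Algebra.TensorProduct.includeRight (R := A) (A := Ah) (B := Γ(X, U x.1)))
    haveI : IsNoetherianRing (Ah ⊗[A] Γ(X, U x.1)) := Algebra.FiniteType.isNoetherianRing Ah _
    have hn := isNormalRing_tensor_sections f hreg (hUa x.1)
    exact ⟨IsLocalization.isNoetherianRing M _ inferInstance, isNormalRing_of_isLocalization' M _ hn,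
      fun y hy => exists_eq_of_isIntegral hn M _ hy⟩
  obtain ⟨x₀⟩ : Nonempty t := by
    obtain ⟨x, hxt, -⟩ := Set.mem_iUnion₂.mp (ht (Set.mem_univ (genericPoint X)))
    exact ⟨⟨x, hxt⟩⟩
  haveI := (hsec x₀).1
  have hT : EGA4.IsNormalRing (Ah ⊗[A] K) := isNormalRing_descend A Ah K X.functionField (hsec x₀).2.1
  let ιB : ∀ x : t, B →ₐ[A] Γ(X, U x.1) := fun x => by
    have hmem : ∀ b : B, ∃ s : Γ(X, U x.1), algebraMap Γ(X, U x.1) X.functionField s = Φ b := by
      intro b
      have hi : (X.germToFunctionField ⊤).hom.IsIntegralElem (Φ (b : K)) := by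
        obtain ⟨p, hp, hp0⟩ := b.2
        refine ⟨p.map (toΓ f), hp.map _, ?_⟩
        rw [Polynomial.eval₂_map]
        have := congrArg Φ.toRingHom hp0
        rw [map_zero, Polynomial.hom_eval₂,
          show Φ.toRingHom.comp (algebraMap A K) = toK f from RingHom.ext fun a => Φ.commutes a] at this
        exact this
      obtain ⟨s, hs⟩ := VarGeom.exists_global_of_isIntegral (fun y => by
        haveI := hreg y
        exact RegLoc6.isIntegrallyClosed_of_isRegularLocalRing _) (Φ (b : K)) hi
      refine ⟨X.presheaf.map (homOfLE le_top).op s, ?_⟩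
      rw [← hs]
      exact X.presheaf.germ_res_apply (homOfLE le_top) (genericPoint X) _ s
    haveI := functionField_isFractionRing_of_isAffineOpen X (U x.1) (hUa x.1)
    have hwinj : Function.Injective (w x) := IsFractionRing.injective Γ(X, U x.1) X.functionField
    exact (AlgEquiv.ofInjective (w x) hwinj).symm.toAlgHom.comp
      ((Φ.comp B.val).codRestrict (w x).range fun b => hmem b)
  have hιB : ∀ (x : t) (b : B), w x (ιB x b) = Φ (b : K) := fun x b => by
    haveI := functionField_isFractionRing_of_isAffineOpen X (U x.1) (hUa x.1)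
    have hwinj : Function.Injective (w x) := IsFractionRing.injective Γ(X, U x.1) X.functionField
    exact congrArg Subtype.val ((AlgEquiv.ofInjective (w x) hwinj).apply_symm_apply _)
  refine isNormalRing_tensor B.val Subtype.val_injective hT (ι := t) (fun x => Γ(X, U x.1))
    (fun _ => X.functionField) ιB w (fun _ => Φ) (fun x b => hιB x b) (fun q hq => ?_) (fun x => (hsec x).2.2)
  choose s hs using hq
  have hcompat : TopCat.Presheaf.IsCompatible X.presheaf (fun x : t => U x.1) s := by
    intro i j
    have hg : genericPoint X ∈ U i.1 ⊓ U j.1 :=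
      ⟨((genericPoint_spec X).mem_open_set_iff (U i.1).isOpen).2 ⟨i.1, trivial, hxU i.1⟩,
        ((genericPoint_spec X).mem_open_set_iff (U j.1).isOpen).2 ⟨j.1, trivial, hxU j.1⟩⟩
    apply germ_injective_of_isIntegral X (genericPoint X) hg
    rw [X.presheaf.germ_res_apply, X.presheaf.germ_res_apply]
    exact (hs i).trans (hs j).symm
  obtain ⟨g, hg, -⟩ := X.sheaf.existsUnique_gluing' (fun x : t => U x.1) ⊤ (fun i => homOfLE le_top)
    (fun z _ => by
      obtain ⟨x, hxt, hzx⟩ := Set.mem_iUnion₂.mp (ht (Set.mem_univ z))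
      exact Opens.mem_iSup.2 ⟨⟨x, hxt⟩, hzx⟩) s hcompat
  letI : Algebra A Γ(X, ⊤) := (toΓ f).toAlgebra
  haveI : Module.Finite A Γ(X, ⊤) := finite_toΓ f
  let G : Γ(X, ⊤) →ₐ[A] X.functionField :=
    { (X.germToFunctionField ⊤).hom with commutes' := fun _ => rfl }
  let g' : Γ(X, ⊤) := g
  have hG : G g' = Φ q := by
    rw [← hs x₀, ← hg x₀]
    exact (X.presheaf.germ_res_apply (homOfLE le_top) (genericPoint X) _ g).symm
  have hq : _root_.IsIntegral A q :=
    (isIntegral_algHom_iff Φ Φ.toRingHom.injective).mp (hG ▸ (Algebra.IsIntegral.isIntegral g').map G)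
  exact ⟨⟨q, hq⟩, rfl⟩

end Groth.Agent.CplNormFinite.Alt
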