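import Groth.Agent.CplNormFinite.Alg
import Groth.Agent.NormCurve.Delta
import Groth.Agent.HensCouple7.ProperPair
import Groth.Agent.NagataLib.Field
import Groth.Agent.Hensel.EtaleReduced

/-! Finiteness of normalization of schemes over noetherian local rings. -/

set_option autoImplicit false
set_option linter.style.haveILetI false

universe u

open CategoryTheory CategoryTheory.Limits AlgebraicGeometry TopologicalSpace IsLocalRing TensorProduct

namespace Groth.Agent.CplNormFinite

variable {X : Scheme.{u}} [IsIntegral X]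

theorem isFinite_normalizationι_of_forall
    [QuasiCompact (X.fromSpecStalk (genericPoint X))] [QuasiSeparated (X.fromSpecStalk (genericPoint X))]
    (h : ∀ (U : X.Opens) [Nonempty U], IsAffineOpen U → Module.Finite Γ(X, U) (integralClosure Γ(X, U) X.functionField)) :
    IsFinite (Curv2.normalizationι X) := by
  haveI : IsAffineHom (Curv2.normalizationι X) :=
    inferInstanceAs (IsAffineHom (X.fromSpecStalk (genericPoint X)).fromNormalization)
  refine ⟨fun U hU => ?_⟩
  rcases (U : Set X).eq_empty_or_nonempty with he | hne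
  · have e : U = ⊥ := Opens.ext he
    subst e
    haveI : Subsingleton Γ(Curv2.normalization X, Curv2.normalizationι X ⁻¹ᵁ ⊥) := by
      rw [Scheme.Hom.preimage_bot]; infer_instance
    exact RingHom.Finite.of_surjective _ fun z => ⟨0, Subsingleton.elim _ _⟩
  haveI : Nonempty (U : X.Opens) := hne.to_subtype
  haveI := functionField_isFractionRing_of_isAffineOpen X U hU
  obtain ⟨e, he⟩ := NormCurve.exists_normalizationEquiv X hU hne X.functionField
  haveI := h U hU
  have h1 : (algebraMap Γ(X, U) (integralClosure Γ(X, U) X.functionField)).Finite :=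
    RingHom.finite_algebraMap.2 inferInstance
  have h2 : ((Curv2.normalizationι X).app U).hom =
      e.symm.toRingHom.comp (algebraMap Γ(X, U) (integralClosure Γ(X, U) X.functionField)) :=
    RingHom.ext fun a => by
      show _ = e.symm _
      rw [← he, e.symm_apply_apply]
  show ((Curv2.normalizationι X).app U).hom.Finite
  rw [h2]
  exact (RingHom.Finite.of_surjective _ e.symm.surjective).comp h1

variable {A : Type u} [CommRing A] (f : X ⟶ Spec (CommRingCat.of A))

/-- The structure map to the function field. -/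
noncomputable def toK : A →+* X.functionField :=
  haveI : Nonempty (⊤ : X.Opens) := ⟨⟨genericPoint X, trivial⟩⟩
  (X.germToFunctionField ⊤).hom.comp (HensCouple7.toΓ f)

/-- The structure map to the functions on an open. -/
noncomputable def toSec (U : X.Opens) : A →+* Γ(X, U) :=
  ((Scheme.ΓSpecIso (CommRingCat.of A)).inv ≫ f.appLE ⊤ U le_top).hom

theorem toSec_eq (U : X.Opens) [Nonempty U] :
    (algebraMap Γ(X, U) X.functionField).comp (toSec f U) = toK f := by
  refine RingHom.ext fun a => ?_
  show X.germToFunctionField U (f.appLE ⊤ U le_top ((Scheme.ΓSpecIso (CommRingCat.of A)).inv a)) = _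
  rw [Scheme.Hom.appLE, CommRingCat.comp_apply]
  show X.presheaf.germ U (genericPoint X) _ (X.presheaf.map _ _) = _
  rw [TopCat.Presheaf.germ_res_apply]
  rfl

theorem finiteType_toSec [LocallyOfFiniteType f] {U : X.Opens} (hU : IsAffineOpen U) : (toSec f U).FiniteType :=
  RingHom.FiniteType.comp (f.finiteType_appLE (isAffineOpen_top _) hU le_top)
    (RingHom.FiniteType.of_surjective _
      (Scheme.ΓSpecIso (CommRingCat.of A)).commRingCatIsoToRingEquiv.symm.surjective)

variable [IsLocalRing A] [IsNoetherianRing A] [LocallyOfFiniteType f]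
    [QuasiCompact (X.fromSpecStalk (genericPoint X))] [QuasiSeparated (X.fromSpecStalk (genericPoint X))]

theorem isFinite_normalizationι_of_reduced
    (hred : letI := (toK f).toAlgebra; IsReduced (EGA4.Cpl A ⊗[A] X.functionField)) :
    IsFinite (Curv2.normalizationι X) := by
  refine isFinite_normalizationι_of_forall fun U _ hU => ?_
  letI := (toK f).toAlgebra
  letI := (toSec f U).toAlgebra
  haveI : IsScalarTower A Γ(X, U) X.functionField :=
    IsScalarTower.of_algebraMap_eq fun a => (RingHom.congr_fun (toSec_eq f U) a).symm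
  haveI : Algebra.FiniteType A Γ(X, U) := finiteType_toSec f hU
  haveI := functionField_isFractionRing_of_isAffineOpen X U hU
  exact isN1 A Γ(X, U) X.functionField hred

theorem isFinite_normalizationι_of_etale [IsReduced (EGA4.Cpl A)]
    (U : X.Opens) (hU : genericPoint X ∈ U) [Etale (U.ι ≫ f)] : IsFinite (Curv2.normalizationι X) := by
  refine isFinite_normalizationι_of_reduced f ?_
  letI := (toK f).toAlgebra
  obtain ⟨V, hV, hηV, hVU⟩ := exists_isAffineOpen_mem_and_subset (X := X) (x := genericPoint X) (U := U) hU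
  haveI : Nonempty V := ⟨⟨_, hηV⟩⟩
  letI := (toSec f V).toAlgebra
  haveI : IsScalarTower A Γ(X, V) X.functionField :=
    IsScalarTower.of_algebraMap_eq fun a => (RingHom.congr_fun (toSec_eq f V) a).symm
  haveI := functionField_isFractionRing_of_isAffineOpen X V hV
  haveI hVle : Etale (V.ι ≫ f) := by
    rw [← X.homOfLE_ι hVU, Category.assoc]
    infer_instance
  haveI : Algebra.Etale A Γ(X, V) := by
    rw [← RingHom.etale_algebraMap]
    haveI : IsAffine V.toScheme := hV
    have h1 : (V.ι ≫ f).appTop.hom.Etale := (HasRingHomProperty.iff_of_isAffine (P := @Etale)).mp hVle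
    have h2 : toSec f V = (V.topIso.hom.hom.comp (V.ι ≫ f).appTop.hom).comp
        (Scheme.ΓSpecIso (CommRingCat.of A)).inv.hom := by
      rw [← CommRingCat.hom_comp, ← CommRingCat.hom_comp, toSec]
      congr 2
      simp only [Scheme.Hom.appLE, Scheme.Opens.topIso, Scheme.Hom.appTop, Scheme.Hom.comp_app,
        Scheme.Opens.ι_app, Category.assoc, Functor.mapIso_hom, Iso.op_hom]
      refine Eq.trans ?_ (Category.assoc _ _ _).symm
      refine congrArg (Scheme.Hom.app f ⊤ ≫ ·) ?_
      exact (congrArg X.presheaf.map (Subsingleton.elim _ _)).trans (Functor.map_comp _ _ _)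
    show (toSec f V).Etale
    rw [h2]
    exact RingHom.Etale.respectsIso.2 _ (Scheme.ΓSpecIso (CommRingCat.of A)).symm.commRingCatIsoToRingEquiv
      (RingHom.Etale.respectsIso.1 _ V.topIso.commRingCatIsoToRingEquiv h1)
  let Ah := EGA4.Cpl A
  haveI : Algebra.Etale Ah (Ah ⊗[A] Γ(X, V)) := inferInstance
  haveI : IsReduced (Ah ⊗[A] Γ(X, V)) := Hensel.isReduced_of_etale Ah _
  let ι : Ah ⊗[A] Γ(X, V) →ₐ[A] Ah ⊗[A] X.functionField :=
    Algebra.TensorProduct.map (AlgHom.id A Ah) (IsScalarTower.toAlgHom A Γ(X, V) X.functionField)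
  letI : Algebra (Ah ⊗[A] Γ(X, V)) (Ah ⊗[A] X.functionField) := ι.toAlgebra
  haveI := FormalFib6.isLocalization_map A Ah Γ(X, V) X.functionField (nonZeroDivisors Γ(X, V))
  exact isReduced_localizationPreserves ((nonZeroDivisors Γ(X, V)).map
    (Algebra.TensorProduct.includeRight (R := A) (A := Ah) (B := Γ(X, V)))) (Ah ⊗[A] X.functionField) inferInstance

set_option synthInstance.maxHeartbeats 400000 in
theorem isFinite_normalizationι_of_normal
    (hY : ∀ y : ↥(Curv2.bcCpl A f), (Curv2.bcCplSnd A f) y ≠ closedPoint (Curv2.cpl A) →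
      IsDomain ((Curv2.bcCpl A f).presheaf.stalk y)) : IsFinite (Curv2.normalizationι X) := by
  classical
  by_cases hη : f (genericPoint X) = closedPoint A
  · refine isFinite_normalizationι_of_forall fun U _ hU => ?_
    haveI := functionField_isFractionRing_of_isAffineOpen X U hU
    letI : Field (A ⧸ maximalIdeal A) := Ideal.Quotient.field _
    have hker : ∀ a ∈ maximalIdeal A, toSec f U a = 0 := by
      intro a ha
      haveI : Nonempty (⊤ : X.Opens) := ⟨⟨genericPoint X, trivial⟩⟩
      have h0 : toK f a = 0 := by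
        by_contra hne
        have h1 : genericPoint X ∈ X.basicOpen (HensCouple7.toΓ f a) :=
          (Scheme.mem_basicOpen (U := ⊤) X _ _ (Opens.mem_top _)).mpr (isUnit_iff_ne_zero.mpr hne)
        rw [HensCouple7.mem_basicOpen_toΓ, hη] at h1
        exact h1 ha
      rw [← toSec_eq f U] at h0
      exact IsFractionRing.injective Γ(X, U) X.functionField (h0.trans (map_zero _).symm)
    let ρ := Ideal.Quotient.lift (maximalIdeal A) (toSec f U) hker
    letI := ρ.toAlgebra
    haveI : Algebra.FiniteType (A ⧸ maximalIdeal A) Γ(X, U) := by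
      have h : (ρ.comp (Ideal.Quotient.mk (maximalIdeal A))).FiniteType := finiteType_toSec f hU
      exact h.of_comp_finiteType
    exact NormCurve.finite_integralClosure_of_nagata (NagataLib.isNagata_of_finiteType (A ⧸ maximalIdeal A) _) _
  refine isFinite_normalizationι_of_reduced f ?_
  letI := (toK f).toAlgebra
  obtain ⟨V, hV, hηV, -⟩ := exists_isAffineOpen_mem_and_subset (X := X) (x := genericPoint X) (U := ⊤) trivial
  haveI : Nonempty V := ⟨⟨_, hηV⟩⟩
  letI := (toSec f V).toAlgebra
  haveI : IsScalarTower A Γ(X, V) X.functionField :=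
    IsScalarTower.of_algebraMap_eq fun a => (RingHom.congr_fun (toSec_eq f V) a).symm
  haveI := functionField_isFractionRing_of_isAffineOpen X V hV
  let B := Γ(X, V)
  let Ah := EGA4.Cpl A
  let ι : Ah ⊗[A] B →ₐ[A] Ah ⊗[A] X.functionField :=
    Algebra.TensorProduct.map (AlgHom.id A Ah) (IsScalarTower.toAlgHom A B X.functionField)
  letI : Algebra (Ah ⊗[A] B) (Ah ⊗[A] X.functionField) := ι.toAlgebra
  haveI := FormalFib6.isLocalization_map A Ah B X.functionField (nonZeroDivisors B)
  let M : Submonoid (Ah ⊗[A] B) := (nonZeroDivisors B).map (Algebra.TensorProduct.includeRight (R := A) (A := Ah) (B := B))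
  let c := Spec.map (CommRingCat.ofHom (algebraMap A Ah))
  have hb : (Spec.map (CommRingCat.ofHom (toSec f V)) : Spec (CommRingCat.of B) ⟶ _) = hV.fromSpec ≫ f := by
    rw [toSec, CommRingCat.ofHom_hom, Spec.map_comp]
    rw [← (isAffineOpen_top _).SpecMap_appLE_fromSpec f hV le_top, IsAffineOpen.fromSpec_top, Scheme.isoSpec_Spec_inv]
  let e : Spec (CommRingCat.of (Ah ⊗[A] B)) ⟶ Curv2.bcCpl A f :=
    (pullbackSpecIso A Ah B).inv ≫ (pullbackSymmetry _ _).hom ≫
      pullback.map (Spec.map (CommRingCat.ofHom (algebraMap A B))) c f c hV.fromSpec (𝟙 _) (𝟙 _)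
        (by rw [Category.comp_id]; exact hb) (by simp)
  haveI : IsOpenImmersion e := inferInstanceAs (IsOpenImmersion ((pullbackSpecIso A Ah B).inv ≫ _))
  have hes : e ≫ Curv2.bcCplSnd A f =
      Spec.map (CommRingCat.ofHom (Algebra.TensorProduct.includeLeftRingHom : Ah →+* Ah ⊗[A] B)) := by
    simp only [e, Curv2.bcCplSnd, Category.assoc]
    erw [pullback.lift_snd, Category.comp_id, pullbackSymmetry_hom_comp_snd]
    exact pullbackSpecIso_inv_fst A Ah B
  have hdom : ∀ P : PrimeSpectrum (Ah ⊗[A] B), Disjoint (M : Set (Ah ⊗[A] B)) P.asIdeal →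
      IsDomain (Localization.AtPrime P.asIdeal) := by
    intro P hP
    have hne : (Curv2.bcCplSnd A f) (e P) ≠ closedPoint (Curv2.cpl A) := by
      intro heq
      rw [← Scheme.Hom.comp_apply, hes] at heq
      apply hη
      have hsub : ∀ a ∈ maximalIdeal A, algebraMap A X.functionField a = 0 := by
        intro a ha
        by_contra hne
        have hB : algebraMap A B a ∈ nonZeroDivisors B := mem_nonZeroDivisors_of_ne_zero fun h0 =>
          hne (by rw [IsScalarTower.algebraMap_apply A B X.functionField, h0, map_zero])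
        have h1 : algebraMap A Ah a ∈ maximalIdeal Ah := (IsLocalRing.mem_maximalIdeal _).mpr fun hu => by
          have h2 := hu.map (AdicCompletion.evalOneₐ (maximalIdeal A))
          rw [AlgHom.commutes] at h2
          exact h2.ne_zero (Ideal.Quotient.eq_zero_iff_mem.mpr ha)
        have h3 : (Algebra.TensorProduct.includeLeftRingHom : Ah →+* Ah ⊗[A] B) (algebraMap A Ah a) ∈ P.asIdeal := by
          have h4 := congrArg PrimeSpectrum.asIdeal heq
          exact h4.ge h1
        refine Set.disjoint_left.mp hP (Submonoid.mem_map.mpr ⟨_, hB, rfl⟩) ?_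
        have h5 : (Algebra.TensorProduct.includeRight (R := A) (A := Ah) (B := B)) (algebraMap A B a) =
            algebraMap A Ah a ⊗ₜ[A] (1 : B) := by
          rw [AlgHom.commutes]; rfl
        show (Algebra.TensorProduct.includeRight (R := A) (A := Ah) (B := B)) (algebraMap A B a) ∈ P.asIdeal
        rw [h5]
        exact h3
      refine PrimeSpectrum.ext (IsLocalRing.eq_maximalIdeal ?_)
      have hle : maximalIdeal A ≤ (f (genericPoint X) : PrimeSpectrum A).asIdeal := by
        intro a ha
        by_contra hna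
        haveI : Nonempty (⊤ : X.Opens) := ⟨⟨genericPoint X, trivial⟩⟩
        have h1 : genericPoint X ∈ X.basicOpen (HensCouple7.toΓ f a) := (HensCouple7.mem_basicOpen_toΓ f a _).mpr hna
        exact ((Scheme.mem_basicOpen (U := ⊤) X _ _ (Opens.mem_top _)).mp h1).ne_zero (hsub a ha)
      rw [← (maximalIdeal.isMaximal A).eq_of_le (PrimeSpectrum.isPrime _).ne_top hle]
      exact maximalIdeal.isMaximal A
    haveI := hY (e P) hne
    exact MulEquiv.isDomain (A := Localization.AtPrime P.asIdeal) ((Curv2.bcCpl A f).presheaf.stalk (e P))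
      ((StructureSheaf.stalkIso (Ah ⊗[A] B) P).toRingEquiv.trans
        (asIso (e.stalkMap P)).symm.commRingCatIsoToRingEquiv).toMulEquiv
  refine ⟨fun z hz => ?_⟩
  obtain ⟨w, s, rfl⟩ := IsLocalization.exists_mk'_eq M z
  obtain ⟨n, hn⟩ := hz
  rw [← IsLocalization.mk'_pow, IsLocalization.mk'_eq_zero_iff] at hn
  obtain ⟨t, ht⟩ := hn
  rw [IsLocalization.mk'_eq_zero_iff]
  by_contra hcon
  push_neg at hcon
  have hd : Disjoint ((LinearMap.ker (LinearMap.toSpanSingleton (Ah ⊗[A] B) _ w)) : Set (Ah ⊗[A] B)) (M : Set (Ah ⊗[A] B)) := by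
    rw [Set.disjoint_left]
    intro m hm hmM
    exact hcon ⟨m, hmM⟩ (by simpa using hm)
  obtain ⟨P, hPp, hle, hPd⟩ := Ideal.exists_le_prime_disjoint _ M hd
  haveI := hPp
  haveI : IsDomain (Localization.AtPrime P) := hdom ⟨P, hPp⟩ (Disjoint.symm hPd)
  haveI : NoZeroDivisors (Localization.AtPrime P) := IsDomain.to_noZeroDivisors _
  haveI : IsReduced (Localization.AtPrime P) := isReduced_of_noZeroDivisors
  let φ := algebraMap (Ah ⊗[A] B) (Localization.AtPrime P)
  have htP : (t : Ah ⊗[A] B) ∉ P := fun h => Set.disjoint_left.mp hPd h t.2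
  have h1 : φ w = 0 := by
    have h2 : φ t * φ w ^ n = 0 := by rw [← map_pow, ← map_mul, ht, map_zero]
    have hu : IsUnit (φ t) := IsLocalization.map_units (Localization.AtPrime P) (⟨t, htP⟩ : P.primeCompl)
    exact pow_eq_zero_iff'.mp (hu.mul_right_eq_zero.mp h2) |>.1
  obtain ⟨⟨r, hr⟩, hrw⟩ := (IsLocalization.map_eq_zero_iff P.primeCompl (Localization.AtPrime P) w).mp h1
  exact hr (hle (show r ∈ LinearMap.ker (LinearMap.toSpanSingleton (Ah ⊗[A] B) _ w) from by simpa using hrw))

end Groth.Agent.CplNormFinite
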