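import Groth.Agent.CompleteNagata.Unramified
import Groth.Agent.CAlgOdd.NagataFT.Poly
import Groth.Agent.NormCurve.Nagata

/-! Finiteness of normalization over a noetherian local ring from reducedness of a generic formal fibre. -/

set_option autoImplicit false

namespace Groth.Agent.CplNormFinite

universe u

open IsLocalRing TensorProduct

/-- Integral closures in localizations of reduced Nagata rings are finite. -/
theorem finite_integralClosure_localization {C : Type u} [CommRing C] [IsReduced C] (hC : CAlg.IsNagata C)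
    (Z : Type u) [CommRing Z] [Algebra C Z] (N : Submonoid C) (hN : N ≤ nonZeroDivisors C) [IsLocalization N Z] :
    Module.Finite C (integralClosure C Z) := by
  classical
  haveI := hC.1
  haveI : Finite (minimalPrimes C) := (minimalPrimes.finite_of_isNoetherianRing C).to_subtype
  haveI : ∀ P : minimalPrimes C, (P.1).IsPrime := fun P => P.2.1.1
  let σ : ∀ P : minimalPrimes C, C →ₐ[C] FractionRing (C ⧸ P.1) := fun P => Algebra.ofId C _
  have hker : ∀ (P : minimalPrimes C) (w : C), σ P w = 0 → w ∈ P.1 := fun P w h =>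
    Ideal.Quotient.eq_zero_iff_mem.mp
      (IsFractionRing.injective (C ⧸ P.1) (FractionRing (C ⧸ P.1)) (h.trans (map_zero _).symm))
  have hunit : ∀ (P : minimalPrimes C) (s : N), IsUnit (σ P s) := fun P s => by
    refine isUnit_iff_ne_zero.mpr fun h => ?_
    exact Set.disjoint_left.mp (Ideal.disjoint_nonZeroDivisors_of_mem_minimalPrimes P.2) (hker P _ h) (hN s.2)
  let Φ : ∀ P : minimalPrimes C, Z →ₐ[C] FractionRing (C ⧸ P.1) := fun P =>
    IsLocalization.liftAlgHom (M := N) (hunit P)
  have hΦ : ∀ z : Z, (∀ P, Φ P z = 0) → z = 0 := fun z hz => by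
    obtain ⟨w, s, rfl⟩ := IsLocalization.exists_mk'_eq N z
    have hw : w = 0 := by
      refine IsReduced.eq_zero _ ((mem_nilradical.mp ?_) : IsNilpotent w)
      rw [nilradical, Ideal.zero_eq_bot, ← Ideal.sInf_minimalPrimes, Ideal.mem_sInf]
      intro P hP
      refine hker ⟨P, hP⟩ w ?_
      have h3 := congrArg (Φ ⟨P, hP⟩) (IsLocalization.mk'_spec Z w s)
      rw [map_mul, hz ⟨P, hP⟩, zero_mul] at h3
      exact ((IsLocalization.lift_eq (M := N) (hunit ⟨P, hP⟩) w).symm.trans h3.symm)
    rw [hw, IsLocalization.mk'_zero]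
  haveI : ∀ P : minimalPrimes C, Module.Finite C (integralClosure C (FractionRing (C ⧸ P.1))) := fun P => by
    haveI hf : Module.Finite (C ⧸ P.1) (integralClosure (C ⧸ P.1) (FractionRing (C ⧸ P.1))) :=
      hC.2 P.1 (FractionRing (C ⧸ P.1)) inferInstance
    haveI : Module.Finite C (integralClosure (C ⧸ P.1) (FractionRing (C ⧸ P.1))) := Module.Finite.trans (C ⧸ P.1) _
    let i : integralClosure C (FractionRing (C ⧸ P.1)) →ₗ[C] integralClosure (C ⧸ P.1) (FractionRing (C ⧸ P.1)) :=
      { toFun := fun z => ⟨z.1, IsIntegral.tower_top (R := C) (A := C ⧸ P.1) z.2⟩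
        map_add' := fun _ _ => rfl
        map_smul' := fun _ _ => rfl }
    exact Module.Finite.of_injective i fun a b h => Subtype.ext (congrArg
      (fun z : integralClosure (C ⧸ P.1) (FractionRing (C ⧸ P.1)) => (z : FractionRing (C ⧸ P.1))) h)
  let k : integralClosure C Z →ₗ[C] ((P : minimalPrimes C) → integralClosure C (FractionRing (C ⧸ P.1))) :=
    LinearMap.pi fun P => (((Φ P).comp (integralClosure C Z).val).codRestrict
      (integralClosure C (FractionRing (C ⧸ P.1))) fun z => (z.2 : IsIntegral C (z : Z)).map (Φ P)).toLinearMap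
  exact Module.Finite.of_injective k fun a b h => Subtype.ext (sub_eq_zero.mp (hΦ _ fun P => by
    rw [map_sub, sub_eq_zero]
    exact congrArg Subtype.val (congrFun h P)))

variable (A B L : Type u) [CommRing A] [IsLocalRing A] [IsNoetherianRing A]
  [CommRing B] [IsDomain B] [Algebra A B] [Algebra.FiniteType A B]
  [Field L] [Algebra B L] [IsFractionRing B L] [Algebra A L] [IsScalarTower A B L]

set_option synthInstance.maxHeartbeats 200000 in
set_option maxHeartbeats 1000000 in
theorem isN1 (hred : IsReduced (EGA4.Cpl A ⊗[A] L)) : Module.Finite B (integralClosure B L) := by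
  classical
  let Ah := EGA4.Cpl A
  haveI := FlatLoc6.isLocalRing_cpl A
  haveI := FlatLoc6.isNoetherianRing_cpl A
  haveI := FlatLoc6.faithfullyFlat_cpl A
  haveI : IsAdicComplete (maximalIdeal Ah) Ah := by
    rw [AdicCompletion.maximalIdeal_eq_map_of_fg (IsNoetherian.noetherian (maximalIdeal A))]
    exact AdicCompletion.isAdicComplete_self _ (IsNoetherian.noetherian _)
  haveI := hred
  let v := IsScalarTower.toAlgHom A B L
  let ι : Ah ⊗[A] B →ₐ[A] Ah ⊗[A] L := Algebra.TensorProduct.map (AlgHom.id A Ah) v
  letI : Algebra (Ah ⊗[A] B) (Ah ⊗[A] L) := ι.toAlgebra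
  haveI := FormalFib6.isLocalization_map A Ah B L (nonZeroDivisors B)
  haveI : IsReduced (Ah ⊗[A] B) := isReduced_of_injective ι
    (Module.Flat.lTensor_preserves_injective_linearMap (M := Ah) v.toLinearMap (IsFractionRing.injective B L))
  have hNg : CAlg.IsNagata (Ah ⊗[A] B) :=
    CAlgOdd.NagataFT.isNagata_of_finiteType (CompleteNagata.isNagata_of_complete Ah) _
  have hN : (nonZeroDivisors B).map (Algebra.TensorProduct.includeRight (R := A) (A := Ah) (B := B)) ≤
      nonZeroDivisors (Ah ⊗[A] B) := by
    rintro _ ⟨s, hs, rfl⟩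
    have hinj : Function.Injective (LinearMap.mulLeft A s) := fun a b h =>
      mul_left_cancel₀ (nonZeroDivisors.ne_zero hs) h
    have h2 := Module.Flat.lTensor_preserves_injective_linearMap (M := Ah) (LinearMap.mulLeft A s) hinj
    rw [mem_nonZeroDivisors_iff_right]
    intro z hz
    refine h2 ((?_ : (LinearMap.mulLeft A s).lTensor Ah z = 0).trans (map_zero _).symm)
    rw [← hz]
    clear hz
    induction z using TensorProduct.induction_on with
    | zero => simp
    | tmul a b => simp [mul_comm s b]
    | add u v hu hv => rw [map_add, hu, hv, add_mul]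
  haveI := finite_integralClosure_localization hNg (Ah ⊗[A] L) _ hN
  haveI := hNg.1
  let R' := integralClosure B L
  let T := integralClosure (Ah ⊗[A] B) (Ah ⊗[A] L)
  have hT : ∀ x : R', ((1 : Ah) ⊗ₜ[A] (x : L)) ∈ T := by
    intro x
    refine IsIntegral.map_of_comp_eq
      (Algebra.TensorProduct.includeRight (R := A) (A := Ah) (B := B)).toRingHom
      (Algebra.TensorProduct.includeRight (R := A) (A := Ah) (B := L)).toRingHom ?_ x.2
    refine RingHom.ext fun b => ?_
    simp [RingHom.algebraMap_toAlgebra, ι, v]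
  let g : R' → Ah ⊗[A] L := fun x => (1 : Ah) ⊗ₜ[A] (x : L)
  obtain ⟨t, ht, hspan⟩ : ∃ t : Finset (Ah ⊗[A] L), (t : Set (Ah ⊗[A] L)) ⊆ Set.range g ∧
      Submodule.span (Ah ⊗[A] B) (t : Set (Ah ⊗[A] L)) = Submodule.span (Ah ⊗[A] B) (Set.range g) := by
    have hfgT : (Subalgebra.toSubmodule T).FG := (Module.Finite.iff_fg (N := Subalgebra.toSubmodule T)).mp
      (inferInstanceAs (Module.Finite (Ah ⊗[A] B) T))
    haveI := isNoetherian_of_fg_of_noetherian _ hfgT
    have hle : Submodule.span (Ah ⊗[A] B) (Set.range g) ≤ Subalgebra.toSubmodule T :=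
      Submodule.span_le.mpr (Set.range_subset_iff.mpr hT)
    have hfg : (Submodule.span (Ah ⊗[A] B) (Set.range g)).FG := by
      have h := (IsNoetherian.noetherian ((Submodule.span (Ah ⊗[A] B) (Set.range g)).comap
        (Subalgebra.toSubmodule T).subtype)).map (Subalgebra.toSubmodule T).subtype
      rwa [Submodule.map_comap_subtype, inf_eq_right.mpr hle] at h
    obtain ⟨t, ht, he⟩ := (Submodule.fg_span_iff_fg_span_finset_subset (Set.range g)).mp hfg
    exact ⟨t, ht, he.symm⟩
  choose! pre hpre using fun y (hy : y ∈ t) => ht hy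
  let N0 : Submodule B L := Submodule.span B ((t.image fun y => (pre y : L)) : Set L)
  have hN0 : N0 ≤ R'.toSubmodule := by
    rw [Submodule.span_le]
    intro z hz
    obtain ⟨y, -, rfl⟩ := Finset.mem_image.mp hz
    exact (pre y).2
  have key : ∀ x : R', (x : L) ∈ N0 := by
    intro x
    have hx : g x ∈ Submodule.span (Ah ⊗[A] B) (t : Set (Ah ⊗[A] L)) := by
      rw [hspan]; exact Submodule.subset_span ⟨x, rfl⟩
    let q : L →ₗ[A] L ⧸ N0 := N0.mkQ.restrictScalars A
    have h0 : ∀ w ∈ Submodule.span (Ah ⊗[A] B) (t : Set (Ah ⊗[A] L)), ∀ c : Ah ⊗[A] B,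
        q.lTensor Ah (ι c * w) = 0 := by
      intro w hw
      induction hw using Submodule.span_induction with
      | mem w hw =>
        intro c
        rw [← hpre w hw]
        induction c using TensorProduct.induction_on with
        | zero => simp
        | tmul a b =>
          show q.lTensor Ah (ι (a ⊗ₜ[A] b) * ((1 : Ah) ⊗ₜ[A] (pre w : L))) = 0
          simp only [ι, Algebra.TensorProduct.map_tmul, AlgHom.coe_id, id_eq, Algebra.TensorProduct.tmul_mul_tmul,
            mul_one, LinearMap.lTensor_tmul]
          rw [show q (v b * (pre w : L)) = 0 from (Submodule.Quotient.mk_eq_zero _).mpr (by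
            rw [show v b * (pre w : L) = b • (pre w : L) from (Algebra.smul_def b (pre w : L)).symm]
            exact N0.smul_mem _ (Submodule.subset_span (Finset.mem_image.mpr ⟨w, hw, rfl⟩))), TensorProduct.tmul_zero]
        | add c c' hc hc' => rw [map_add, add_mul, map_add, hc, hc', add_zero]
      | zero => intro c; simp
      | add w w' _ _ h h' => intro c; rw [mul_add, map_add, h c, h' c, add_zero]
      | smul a w _ h =>
        intro c
        have : ι c * (a • w) = ι (c * a) * w := by
          rw [Algebra.smul_def, map_mul, mul_assoc]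
          rfl
        rw [this]
        exact h _
    have h1 := h0 _ hx 1
    rw [map_one, one_mul, show g x = (1 : Ah) ⊗ₜ[A] (x : L) from rfl, LinearMap.lTensor_tmul] at h1
    exact (Submodule.Quotient.mk_eq_zero _).mp
      (Module.FaithfullyFlat.tensorProduct_mk_injective (A := A) (B := Ah) (L ⧸ N0) (h1.trans (map_zero _).symm))
  have e : R'.toSubmodule = N0 := le_antisymm (fun z hz => key ⟨z, hz⟩) hN0
  have hfg : R'.toSubmodule.FG := e ▸ Submodule.fg_span (Finset.finite_toSet _)
  exact Module.Finite.of_fg hfg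

end Groth.Agent.CplNormFinite
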